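import Groth.Agent.H4.ConnSubAV
import Groth.Agent.H4.ChowBC
import Groth.Agent.H52.FBase.PrimaryGeom

/-! Abelian subvarieties descend along primary field extensions. -/

set_option autoImplicit false
set_option linter.style.haveILetI false

universe u

open CategoryTheory CategoryTheory.Limits MonoidalCategory CartesianMonoidalCategory AlgebraicGeometry
open scoped MonObj GrpObj
open Groth.Agent.Lib
open IsLocalRing (closedPoint)

namespace Groth.Agent.H4.Chow

noncomputable section

variable {k K : Type u} [Field k] [Field K] [Algebra k K]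

/-- The projection of a base change. -/
abbrev pr (X : Over (Spec (CommRingCat.of k))) :
    (Red.bc (AbVar.ext k K) X).left ⟶ X.left :=
  pullback.fst X.hom (AbVar.ext k K)

theorem surjective_ext : Surjective (AbVar.ext k K) :=
  ⟨fun _ => ⟨closedPoint K, Subsingleton.elim (α := PrimeSpectrum k) _ _⟩⟩

instance surjective_pr (X : Over (Spec (CommRingCat.of k))) : Surjective (pr (K := K) X) := by
  haveI := surjective_ext (k := k) (K := K)
  exact inferInstanceAs (Surjective (pullback.fst X.hom (AbVar.ext k K)))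

theorem geometricallyIrreducible_ext (h : AbVar.IsPrimaryExt k K) :
    GeometricallyIrreducible (AbVar.ext k K) := by
  have hs : separableClosure k K = ⊥ := by
    refine eq_bot_iff.2 fun x hx => ?_
    exact IntermediateField.mem_bot.2 (h x (mem_separableClosure_iff.1 hx))
  refine ⟨?_⟩
  rw [geometrically_iff_of_isClosedUnderIsomorphisms]
  intro L _ σ
  obtain ⟨φ, rfl⟩ := Spec.map_surjective σ
  letI : Algebra k L := φ.hom.toAlgebra
  exact H52.FBase.PrimaryGeom.irreducibleSpace_bc_spec K hs L

theorem isOpenMap_pr (X : Over (Spec (CommRingCat.of k))) : IsOpenMap (pr (K := K) X) :=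
  H52.FBase.Connected.isOpenMap_bcπ X.hom K

theorem map_left_pr {X Y : Over (Spec (CommRingCat.of k))} (f : X ⟶ Y) :
    ((Over.pullback (AbVar.ext k K)).map f).left ≫ pr Y = pr X ≫ f.left :=
  pullback.lift_fst _ _ _

theorem map_pow (A : Over (Spec (CommRingCat.of k))) [GrpObj A] (n : ℕ) :
    (Over.pullback (AbVar.ext k K)).map ((𝟙 A : A ⟶ A) ^ n) = (𝟙 (Red.bc (AbVar.ext k K) A)) ^ n := by
  induction n with
  | zero => simp [Functor.map_one]
  | succ n ih => rw [pow_succ, Functor.map_mul, ih, CategoryTheory.Functor.map_id, pow_succ]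

section Torsion

variable (A : Over (Spec (CommRingCat.of k))) [GrpObj A]

/-- The kernel of multiplication by `n`. -/
abbrev tors (n : ℕ) : Scheme.{u} := pullback η[A].left ((𝟙 A : A ⟶ A) ^ n).left

/-- Its inclusion. -/
abbrev torsIncl (n : ℕ) : tors A n ⟶ A.left := pullback.snd η[A].left ((𝟙 A : A ⟶ A) ^ n).left

theorem torsIncl_hom (n : ℕ) :
    torsIncl A n ≫ A.hom = pullback.fst η[A].left ((𝟙 A : A ⟶ A) ^ n).left := by
  conv_rhs => rw [← Category.comp_id (pullback.fst _ _), ← show η[A].left ≫ A.hom = 𝟙 _ from Over.w η[A]]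
  rw [pullback.condition_assoc]
  congr 1
  exact (Over.w ((𝟙 A : A ⟶ A) ^ n)).symm

variable [IsProper A.hom] [IsCommMonObj A]

instance isClosedImmersion_torsIncl (n : ℕ) : IsClosedImmersion (torsIncl A n) := by
  haveI : IsClosedImmersion (η[A].left ≫ A.hom) := by
    rw [Over.w η[A]]; exact (inferInstance : IsClosedImmersion (𝟙 (Spec (CommRingCat.of k))))
  haveI : IsClosedImmersion η[A].left := IsClosedImmersion.of_comp η[A].left A.hom
  exact inferInstanceAs (IsClosedImmersion (pullback.snd η[A].left ((𝟙 A : A ⟶ A) ^ n).left))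

theorem etale_tors {n : ℕ} (hn : (n : k) ≠ 0) : Etale (torsIncl A n ≫ A.hom) := by
  rw [torsIncl_hom]
  haveI : Etale ((𝟙 A : A ⟶ A) ^ n).left := NPowEtale.etale_pow (G := A) hn
  infer_instance

theorem isFinite_tors {n : ℕ} (hn : (n : k) ≠ 0) : IsFinite (torsIncl A n ≫ A.hom) := by
  rw [torsIncl_hom]
  haveI : IsFinite ((𝟙 A : A ⟶ A) ^ n).left := NPowEtale.isFinite_pow (G := A) hn
  infer_instance

/-- Over a torsion point there is exactly one point of the base change to a primary extension. -/
theorem subsingleton_fibre (hK : AbVar.IsPrimaryExt k K) {n : ℕ} (hn : (n : k) ≠ 0) (z : tors A n) :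
    ((pr (K := K) A) ⁻¹' {torsIncl A n z}).Subsingleton := by
  haveI := geometricallyIrreducible_ext hK
  haveI : GeometricallyIrreducible (pr (K := K) A) :=
    inferInstanceAs (GeometricallyIrreducible (pullback.fst A.hom (AbVar.ext k K)))
  haveI := isFinite_tors A hn
  let W := pullback (torsIncl A n) (pr (K := K) A)
  let w : W ⟶ (Red.bc (AbVar.ext k K) A).left := pullback.snd _ _
  haveI : IsFinite (pullback.snd (torsIncl A n ≫ A.hom) (AbVar.ext k K)) := inferInstance
  let s0 : ↥(Spec (CommRingCat.of K)) := closedPoint K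
  let f0 := pullback.snd (torsIncl A n ≫ A.hom) (AbVar.ext k K)
  have hS0 : f0 ⁻¹' {s0} = Set.univ :=
    Set.eq_univ_of_forall fun x => Subsingleton.elim (α := PrimeSpectrum K) _ _
  haveI : Finite ↥(pullback (torsIncl A n ≫ A.hom) (AbVar.ext k K)) := by
    have h := f0.finite_preimage_singleton s0
    rw [hS0] at h
    exact Set.finite_univ_iff.1 h
  haveI : DiscreteTopology ↥(pullback (torsIncl A n ≫ A.hom) (AbVar.ext k K)) := by
    have h := (f0.isDiscrete_preimage_singleton s0).1
    rw [hS0] at h
    exact (Homeomorph.Set.univ _).discreteTopology_iff.1 h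
  let e := (pullbackRightPullbackFstIso A.hom (AbVar.ext k K) (torsIncl A n)).hom.homeomorph
  haveI : Finite W := Finite.of_equiv _ e.toEquiv.symm
  haveI : DiscreteTopology W := e.symm.discreteTopology_iff.1 inferInstance
  haveI : IsClosedImmersion w := inferInstanceAs (IsClosedImmersion (pullback.snd (torsIncl A n) (pr A)))
  set S := (pr (K := K) A) ⁻¹' {torsIncl A n z}
  have hsub : S ⊆ Set.range w := by
    show S ⊆ Set.range (pullback.snd (torsIncl A n) (pr (K := K) A))
    rw [Scheme.Pullback.range_snd]
    intro y hy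
    exact ⟨z, (Set.mem_singleton_iff.1 hy).symm⟩
  have hfin : S.Finite := (Set.finite_range w).subset hsub
  have hclosed : ∀ y ∈ S, IsClosed ({y} : Set (Red.bc (AbVar.ext k K) A).left) := by
    intro y hy
    obtain ⟨v, rfl⟩ := hsub hy
    rw [← Set.image_singleton]
    exact w.isClosedEmbedding.isClosedMap _ (isClosed_discrete _)
  have hirr : IsIrreducible S :=
    (pr (K := K) A).isIrreducible_preimage (isOpenMap_pr A) isIrreducible_singleton
  obtain ⟨y₀, hy₀⟩ := hirr.nonempty
  have hd : IsClosed (S \ {y₀}) := by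
    rw [← Set.biUnion_of_singleton (S \ {y₀})]
    exact hfin.sdiff.isClosed_biUnion fun y hy => hclosed y hy.1
  rcases (isPreirreducible_iff_isClosed_union_isClosed.1 hirr.isPreirreducible) {y₀} (S \ {y₀})
    (hclosed y₀ hy₀) hd (fun y hy => (em (y = y₀)).imp id fun h => ⟨hy, h⟩) with h | h
  · exact Set.subsingleton_singleton.anti h
  · exact absurd rfl (h hy₀).2

end Torsion

variable (A : Over (Spec (CommRingCat.of k))) [GrpObj A] [IsProper A.hom] [GeometricallyIntegral A.hom]
  (B' : Over (Spec (CommRingCat.of K))) [GrpObj B'] [IsProper B'.hom] [GeometricallyIntegral B'.hom]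
  (i' : B' ⟶ Red.bc (AbVar.ext k K) A) [IsMonHom i'] [IsClosedImmersion i'.left]

/-- Chow: an abelian subvariety over a primary extension is defined over the ground field. -/
theorem exists_descent (hK : AbVar.IsPrimaryExt k K) :
    ∃ (B : Over (Spec (CommRingCat.of k))) (_ : GrpObj B) (i : B ⟶ A), IsProper B.hom ∧
      GeometricallyIntegral B.hom ∧ IsMonHom i ∧ IsClosedImmersion i.left ∧
      ∃ e : Red.bc (AbVar.ext k K) B ≅ B', e.hom ≫ i' = (Over.pullback (AbVar.ext k K)).map i := by
  haveI := isCommMonObj_of_isProper_of_geometricallyIntegral A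
  haveI := isCommMonObj_of_isProper_of_geometricallyIntegral B'
  haveI : IsIntegral B'.left := GeometricallyIntegral.isIntegral_of_subsingleton B'.hom
  haveI : Mono i' := Over.mono_of_mono_left _
  obtain ⟨l, hl, hlk⟩ : ∃ l : ℕ, l.Prime ∧ (l : k) ≠ 0 := by
    by_cases h2 : (2 : k) = 0
    · refine ⟨3, Nat.prime_three, fun h3 => one_ne_zero (α := k) ?_⟩
      linear_combination (norm := (push_cast; ring_nf)) h3 - h2
    · exact ⟨2, Nat.prime_two, by exact_mod_cast h2⟩
  haveI : Fact l.Prime := ⟨hl⟩
  have hlm : ∀ m : ℕ, ((l ^ m : ℕ) : k) ≠ 0 := fun m => by rw [Nat.cast_pow]; exact pow_ne_zero _ hlk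
  set π := pr (K := K) A with hπdef
  let D : Set A.left := {x | ∃ (m : ℕ) (z : tors A (l ^ m)), torsIncl A (l ^ m) z = x ∧
    ∃ y ∈ Set.range i'.left, π y = x}
  let Z := closure D
  -- the preimage of `Z` is `B'`
  have hpre : π ⁻¹' Z = Set.range i'.left := by
    rw [(isOpenMap_pr A).preimage_closure_eq_closure_preimage π.continuous]
    refine le_antisymm (closure_minimal ?_ i'.left.isClosedEmbedding.isClosed_range) ?_
    · rintro y ⟨m, z, hz, y', hy', hy'x⟩
      rwa [subsingleton_fibre A hK (hlm m) z (show π y = torsIncl A (l ^ m) z from hz.symm)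
        (show π y' = torsIncl A (l ^ m) z from hy'x.trans hz.symm)]
    · let e := GrpSch.extBase K (AlgebraicClosure K)
      let Bb := Red.bc e B'
      haveI : IsProper Bb.hom := GrpSch.bc_hom_of (P := @IsProper) e B' inferInstance
      haveI : GeometricallyIntegral Bb.hom :=
        GrpSch.bc_hom_of (P := @GeometricallyIntegral) e B' inferInstance
      haveI := isCommMonObj_of_isProper_of_geometricallyIntegral Bb
      let q : Bb.left ⟶ B'.left := pullback.fst B'.hom e
      haveI : Surjective e := ⟨fun _ => ⟨closedPoint (AlgebraicClosure K),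
        Subsingleton.elim (α := PrimeSpectrum K) _ _⟩⟩
      haveI : Surjective q := inferInstanceAs (Surjective (pullback.fst B'.hom e))
      have hall : (q ≫ i'.left) ⁻¹' closure (π ⁻¹' D) = Set.univ := by
        refine TorsionDense.dense Bb l ?_ (isClosed_closure.preimage (q ≫ i'.left).continuous) fun m a ha => ?_
        · intro h0
          exact hlk ((algebraMap K (AlgebraicClosure K)).injective.comp (algebraMap k K).injective
            (by simp only [Function.comp_apply, map_natCast, map_zero, h0]))
        have hmap : ∀ n : ℕ, (Over.pullback e).map ((𝟙 B' : B' ⟶ B') ^ n) = (𝟙 Bb) ^ n := by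
          intro n
          induction n with
          | zero => simp [Functor.map_one, Bb]
          | succ n ih => rw [pow_succ, Functor.map_mul, ih, CategoryTheory.Functor.map_id, pow_succ]
        have h1 : (a ≫ (Over.pullback e).map ((𝟙 B' : B' ⟶ B') ^ (l ^ m))).left ≫ q =
            (a ≫ (Over.pullback e).map (1 : B' ⟶ B')).left ≫ q := by
          rw [hmap, MonObj.comp_pow, Category.comp_id, ha, Functor.map_one, MonObj.comp_one]
        have h2 : ∀ f : B' ⟶ B', (a ≫ (Over.pullback e).map f).left ≫ q = (a.left ≫ q) ≫ f.left := by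
          intro f
          rw [Over.comp_left, Category.assoc, Category.assoc]
          congr 1
          exact pullback.lift_fst _ _ _
        rw [h2, h2] at h1
        let c := (a.left ≫ q) ≫ i'.left
        have h3 : c ≫ ((Over.pullback (AbVar.ext k K)).map ((𝟙 A : A ⟶ A) ^ (l ^ m))).left =
            c ≫ ((Over.pullback (AbVar.ext k K)).map (1 : A ⟶ A)).left := by
          rw [map_pow, Functor.map_one]
          have e2 : i' ≫ (𝟙 (Red.bc (AbVar.ext k K) A)) ^ (l ^ m) = (𝟙 B' ^ (l ^ m)) ≫ i' := by
            rw [MonObj.comp_pow, Category.comp_id, MonObj.pow_comp, Category.id_comp]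
          have e3 : i' ≫ (1 : Red.bc (AbVar.ext k K) A ⟶ Red.bc (AbVar.ext k K) A) = (1 : B' ⟶ B') ≫ i' := by
            rw [MonObj.comp_one, MonObj.one_comp]
          show ((a.left ≫ q) ≫ i'.left) ≫ _ = ((a.left ≫ q) ≫ i'.left) ≫ _
          simp only [Category.assoc]
          rw [← Over.comp_left, ← Over.comp_left, e2, e3, Over.comp_left, Over.comp_left]
          simp only [← Category.assoc]
          rw [h1]
        have h4 := congrArg (· ≫ π) h3
        simp only [π, Category.assoc, map_left_pr] at h4
        rw [show (1 : A ⟶ A).left = A.hom ≫ η[A].left by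
          rw [Hom.one_def, Over.comp_left, Over.toUnit_left]] at h4
        let lf := pullback.lift ((c ≫ π) ≫ A.hom) (c ≫ π)
          (show ((c ≫ π) ≫ A.hom) ≫ η[A].left = (c ≫ π) ≫ ((𝟙 A : A ⟶ A) ^ (l ^ m)).left by
            simp only [π, Category.assoc]; exact h4.symm)
        refine subset_closure (show π _ ∈ D from ⟨m, lf (closedPoint (AlgebraicClosure K)), ?_,
          (q ≫ i'.left) (TorsionDense.cp a), ⟨q (TorsionDense.cp a), rfl⟩, rfl⟩)
        have hl' : lf ≫ torsIncl A (l ^ m) = c ≫ π := pullback.lift_snd _ _ _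
        exact congrArg (fun f : (𝟙_ (Over (Spec (CommRingCat.of (AlgebraicClosure K))))).left ⟶ A.left =>
          f (closedPoint (AlgebraicClosure K))) hl'
      rintro _ ⟨y, rfl⟩
      obtain ⟨w, rfl⟩ := q.surjective y
      exact hall.ge (Set.mem_univ w)
  -- the scheme
  let J := Scheme.IdealSheafData.vanishingIdeal (⟨Z, isClosed_closure⟩ : TopologicalSpace.Closeds A.left)
  haveI : IsReduced J.subscheme := H75.RedSub.isReduced_vanishingIdeal _
  let B : Over (Spec (CommRingCat.of k)) := Over.mk (J.subschemeι ≫ A.hom)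
  let i : B ⟶ A := Over.homMk J.subschemeι rfl
  haveI : IsClosedImmersion i.left := inferInstanceAs (IsClosedImmersion J.subschemeι)
  haveI : Mono i := Over.mono_of_mono_left _
  have hi : Set.range i.left = Z := J.range_subschemeι
  haveI : IsProper B.hom := inferInstanceAs (IsProper (J.subschemeι ≫ A.hom))
  haveI : IsReduced B.left := ‹IsReduced J.subscheme›
  haveI : GeometricallyReduced B.hom := by
    haveI hsm : ∀ m, Smooth (torsIncl A (l ^ m) ≫ A.hom) := fun m => by
      haveI := etale_tors A (hlm m); infer_instance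
    haveI : ∀ m, IsReduced (tors A (l ^ m)) := fun m =>
      GrpSch.isReduced_of_smooth_field (torsIncl A (l ^ m) ≫ A.hom)
    haveI : ∀ m, DiscreteTopology (tors A (l ^ m)) := fun m => by
      haveI := isFinite_tors A (hlm m)
      let s0 : ↥(Spec (CommRingCat.of k)) := closedPoint k
      have hS0 : (torsIncl A (l ^ m) ≫ A.hom) ⁻¹' {s0} = Set.univ :=
        Set.eq_univ_of_forall fun x => Subsingleton.elim (α := PrimeSpectrum k) _ _
      have h := ((torsIncl A (l ^ m) ≫ A.hom).isDiscrete_preimage_singleton s0).1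
      rw [hS0] at h
      exact (Homeomorph.Set.univ _).discreteTopology_iff.1 h
    let Idx := ULift.{u} (Σ m : ℕ, {z : tors A (l ^ m) // torsIncl A (l ^ m) z ∈ D})
    let U : ∀ x : Idx, (tors A (l ^ x.down.1)).Opens := fun x => ⟨{x.down.2.1}, isOpen_discrete _⟩
    have hlift : ∀ x : Idx, ∃ t : (U x).toScheme ⟶ B.left, t ≫ J.subschemeι = (U x).ι ≫ torsIncl A (l ^ x.down.1) := by
      intro x
      refine H75.RedKer.exists_lift _ J.subschemeι ?_
      rw [show Set.range J.subschemeι = Z from J.range_subschemeι]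
      rintro _ ⟨w, rfl⟩
      have hw : (U x).ι w = x.down.2.1 := w.2
      rw [Scheme.Hom.comp_apply, hw]
      exact subset_closure x.down.2.2
    choose t ht using hlift
    haveI : ∀ x : Idx, GeometricallyReduced (t x ≫ B.hom) := fun x => by
      show GeometricallyReduced (t x ≫ J.subschemeι ≫ A.hom)
      rw [reassoc_of% ht x]
      haveI := GrpSch.geometricallyReduced_of_smooth_field (torsIncl A (l ^ x.down.1) ≫ A.hom)
      exact DenseGeomRed.geometricallyReduced_comp _ _
    refine DenseGeomRed.geometricallyReduced_of_dense B.hom (fun x : Idx => (U x).toScheme) t ?_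
    intro y
    rw [i.left.isClosedEmbedding.isEmbedding.isInducing.closure_eq_preimage_closure_image, Set.mem_preimage]
    refine closure_mono ?_ (show i.left y ∈ closure D from hi.le (Set.mem_range_self y))
    intro w hw
    obtain ⟨m, z, rfl, hrest⟩ := hw
    let x : Idx := ⟨⟨m, z, m, z, rfl, hrest⟩⟩
    refine ⟨t x ⟨z, rfl⟩, Set.mem_iUnion_of_mem x ⟨_, rfl⟩, ?_⟩
    show (t x ≫ J.subschemeι) _ = _
    rw [ht]
    rfl
  -- the base change is `B'`
  let Bk := Red.bc (AbVar.ext k K) B
  let iK : Bk ⟶ Red.bc (AbVar.ext k K) A := (Over.pullback (AbVar.ext k K)).map i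
  have hsq : IsPullback (pr (K := K) B) iK.left i.left π := by
    refine IsPullback.of_bot ?_ (map_left_pr i).symm (IsPullback.of_hasPullback A.hom (AbVar.ext k K))
    rw [Over.w i]
    rw [show iK.left ≫ pullback.snd A.hom (AbVar.ext k K) = pullback.snd B.hom (AbVar.ext k K) from
      pullback.lift_snd _ _ _]
    exact IsPullback.of_hasPullback B.hom (AbVar.ext k K)
  haveI : IsClosedImmersion iK.left := MorphismProperty.of_isPullback (P := @IsClosedImmersion) hsq inferInstance
  haveI : Mono iK := Over.mono_of_mono_left _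
  haveI : IsReduced Bk.left :=
    GeometricallyReduced.geometrically_isReduced (f := B.hom) (AbVar.ext k K) _ _ (IsPullback.of_hasPullback _ _)
  have hrK : Set.range iK.left = Set.range i'.left := by
    rw [← hpre, ← hi]
    rw [← hsq.isoPullback_hom_snd, Scheme.Hom.comp_base, TopCat.coe_comp, Set.range_comp,
      hsq.isoPullback.hom.surjective.range_eq, Set.image_univ, Scheme.Pullback.range_snd]
  obtain ⟨u, hu⟩ := HomImage.exists_factor i' iK hrK.le
  obtain ⟨v, hv⟩ := HomImage.exists_factor iK i' hrK.ge
  let e : Bk ≅ B' := ⟨u, v, by rw [← cancel_mono iK, Category.assoc, hv, hu, Category.id_comp],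
    by rw [← cancel_mono i', Category.assoc, hu, hv, Category.id_comp]⟩
  -- the group law
  have hland : ∀ {V : Over (Spec (CommRingCat.of k))} [IsReduced V.left] (φ : V ⟶ A),
      (∃ φ' : Red.bc (AbVar.ext k K) V ⟶ B', φ' ≫ i' = (Over.pullback (AbVar.ext k K)).map φ) →
      ∃ ψ : V ⟶ B, ψ ≫ i = φ := by
    rintro V _ φ ⟨φ', hφ'⟩
    refine HomImage.exists_factor i φ ?_
    rintro _ ⟨w, rfl⟩
    obtain ⟨w', rfl⟩ := (pr (K := K) V).surjective w
    rw [hi, ← Scheme.Hom.comp_apply, ← map_left_pr, ← hφ', Scheme.Hom.comp_apply, ← Set.mem_preimage, hpre]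
    exact ⟨φ'.left w', (Scheme.Hom.comp_apply _ _ _).symm⟩
  haveI : IsReduced (B ⊗ B).left := by
    haveI := H52.FBase.GeomRedSch.geometricallyReduced_prod B.hom B.hom
    let f := pullback.fst B.hom B.hom ≫ B.hom
    haveI : IsReduced (pullback f (𝟙 _)) :=
      GeometricallyReduced.geometrically_isReduced _ _ _ (.of_hasPullback _ _)
    show IsReduced (pullback B.hom B.hom)
    exact isReduced_of_isOpenImmersion (inv (pullback.fst f (𝟙 _)))
  haveI : IsReduced (𝟙_ (Over (Spec (CommRingCat.of k)))).left :=
    inferInstanceAs (IsReduced (Spec (CommRingCat.of k)))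
  have hu' : ∀ {V : Over (Spec (CommRingCat.of k))} (f : V ⟶ B),
      ((Over.pullback (AbVar.ext k K)).map f ≫ u) ≫ i' = (Over.pullback (AbVar.ext k K)).map (f ≫ i) := by
    intro V f
    rw [Category.assoc, hu, Functor.map_comp]
  obtain ⟨G, hG⟩ := HomImage.exists_grpObj i
    (hland η[A] ⟨(Over.pullback (AbVar.ext k K)).map (toUnit _) ≫ 1, by
      rw [Category.assoc, MonObj.one_comp, MonObj.comp_one, MonObj.one_eq_one, Functor.map_one]⟩)
    (hland _ ⟨((Over.pullback (AbVar.ext k K)).map (fst B B) ≫ u) * ((Over.pullback (AbVar.ext k K)).map (snd B B) ≫ u), by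
      rw [MonObj.mul_comp, hu', hu', Functor.map_mul]⟩)
    (hland _ ⟨u⁻¹, by
      rw [GrpObj.inv_comp, hu, Functor.map_inv']⟩)
  haveI : ConnectedSpace B.left := by
    haveI : ConnectedSpace Bk.left := by
      haveI : ConnectedSpace B'.left := inferInstance
      let h := ((Over.forget _).mapIso e.symm).hom.homeomorph
      exact (h.surjective.connectedSpace (α := B'.left) h.continuous)
    exact (pr (K := K) B).surjective.connectedSpace (pr (K := K) B).continuous
  exact ⟨B, G, i, inferInstance, HomImage.geometricallyIntegral_of_connected B, hG, inferInstance, e, hu⟩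

end

end Groth.Agent.H4.Chow
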