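import Groth.Agent.H4.Chow.Image
import Groth.Agent.H4.Factor
import Groth.Agent.H4.AVPoints
import Groth.Agent.H4.IsogenyFactor
import Groth.Agent.H4.KernelSquare
import Groth.Agent.H4.MulIso
import Groth.Agent.Lib.CommAlgGrp.Basic
import Mathlib.AlgebraicGeometry.Morphisms.FlatMono

/-! A finite etale isogeny onto the base change of an abelian variety along a primary extension
descends to the ground field. -/

set_option autoImplicit false
set_option linter.style.haveILetI false

universe u

open CategoryTheory CategoryTheory.Limits MonoidalCategory CartesianMonoidalCategory AlgebraicGeometry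
open scoped MonObj GrpObj
open Groth.Agent.Lib

namespace Groth.Agent.H4.Chow

noncomputable section

section Base

variable {k : Type u} [Field k]

/-- The diagonal of a group is the base change of the unit section. -/
theorem isPullback_diag {S : Scheme.{u}} (N : Over S) [GrpObj N] :
    IsPullback (lift (𝟙 N) (𝟙 N)) (toUnit N) (fst N N / snd N N) η[N] := by
  have hw : lift (𝟙 N) (𝟙 N) ≫ (fst N N / snd N N) = toUnit N ≫ η[N] := by
    rw [GrpObj.comp_div, lift_fst, lift_snd, div_self', Hom.one_def]
  have hs : ∀ s : PullbackCone (fst N N / snd N N) η[N],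
      s.fst ≫ fst N N = s.fst ≫ snd N N := fun s => by
    have h := s.condition
    rw [toUnit_unique s.snd (toUnit _), ← Hom.one_def, GrpObj.comp_div, div_eq_one] at h
    exact h
  refine IsPullback.of_isLimit' ⟨hw⟩ (PullbackCone.IsLimit.mk hw (fun s => s.fst ≫ fst N N)
    (fun s => ?_) (fun s => toUnit_unique _ _) fun s m hm _ => ?_)
  · apply CartesianMonoidalCategory.hom_ext <;> simp [hs s]
  · rw [← hm]; simp

/-- A group of finite type over a field whose unit section is an open immersion is etale. -/
theorem etale_of_isOpenImmersion_unit (N : Over (Spec (CommRingCat.of k))) [GrpObj N]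
    [LocallyOfFiniteType N.hom] [IsOpenImmersion η[N].left] : Etale N.hom := by
  haveI : IsOpenImmersion (lift (𝟙 N) (𝟙 N)).left :=
    MorphismProperty.of_isPullback (P := @IsOpenImmersion)
      ((isPullback_diag N).map (Over.forget _)).flip ‹_›
  haveI : IsOpenImmersion (pullback.diagonal N.hom) := by
    rw [show pullback.diagonal N.hom = (lift (𝟙 N) (𝟙 N)).left from rfl]; infer_instance
  exact Etale.iff_flat_and_formallyUnramified.2 ⟨SpHomog.flat_to_field _, inferInstance,
    LocallyOfFinitePresentation.iff_locallyOfFiniteType.2 ‹_›⟩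

/-- The unit section of an etale group is an open immersion. -/
theorem isOpenImmersion_unit {S : Scheme.{u}} (N : Over S) [GrpObj N] [Etale N.hom] :
    IsOpenImmersion η[N].left := by
  haveI h1 : Etale (η[N].left ≫ N.hom) := by
    rw [Over.w η[N]]; exact inferInstanceAs (Etale (𝟙 S))
  haveI : Etale η[N].left := Etale.of_comp η[N].left N.hom
  haveI h2 : Mono (η[N].left ≫ N.hom) := by
    rw [Over.w η[N]]; exact inferInstanceAs (Mono (𝟙 S))
  haveI : Mono η[N].left := mono_of_mono η[N].left N.hom
  exact IsOpenImmersion.of_flat_of_mono _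

theorem locallyOfFinitePresentation_left {A B : Over (Spec (CommRingCat.of k))}
    [LocallyOfFiniteType A.hom] [LocallyOfFiniteType B.hom] (f : A ⟶ B) :
    LocallyOfFinitePresentation f.left := by
  haveI : LocallyOfFiniteType f.left := GrpQ.locallyOfFiniteType_left f
  haveI : IsLocallyNoetherian B.left := LocallyOfFiniteType.isLocallyNoetherian B.hom
  exact LocallyOfFinitePresentation.iff_locallyOfFiniteType.2 ‹_›

/-- The target of a flat surjection from a geometrically integral variety is geometrically integral. -/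
theorem geometricallyIntegral_of_cover {A Q : Over (Spec (CommRingCat.of k))} [GeometricallyIntegral A.hom]
    (q : A ⟶ Q) [Flat q.left] [Surjective q.left] : GeometricallyIntegral Q.hom := by
  refine ⟨fun L _ y P f g h => ?_⟩
  let u : pullback A.hom y ⟶ P := h.lift (pullback.fst A.hom y ≫ q.left) (pullback.snd A.hom y)
    (by rw [Category.assoc, Over.w q, pullback.condition])
  have hu : IsPullback (pullback.fst A.hom y) u q.left f := by
    refine IsPullback.of_bot ?_ (h.lift_fst _ _ _).symm h
    rw [Over.w q, h.lift_snd]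
    exact IsPullback.of_hasPullback A.hom y
  haveI : Flat u := MorphismProperty.of_isPullback (P := @Flat) hu ‹_›
  haveI : Surjective u := MorphismProperty.of_isPullback (P := @Surjective) hu ‹_›
  exact H52.FBase.Descend.isIntegral_of_flat_surjective u
    (GeometricallyIntegral.geometrically_isIntegral (f := A.hom) y _ _ (IsPullback.of_hasPullback _ _))

end Base

variable {k K : Type u} [Field k] [Field K] [Algebra k K]

/-- Base change preserves kernels. -/
theorem map_kernel {N G H : Over (Spec (CommRingCat.of k))} [GrpObj H] {i : N ⟶ G} {f : G ⟶ H}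
    (hK : AlgGrp.IsKernel i f) :
    AlgGrp.IsKernel ((Over.pullback (AbVar.ext k K)).map i) ((Over.pullback (AbVar.ext k K)).map f) := by
  let F := Over.pullback (AbVar.ext k K)
  refine (hK.map F).of_iso (Iso.refl _) (Iso.refl _) (Functor.Monoidal.εIso F).symm (Iso.refl _)
    (by simp [F]) (toUnit_unique _ _) (by simp [F]) ?_
  simp [F, Functor.obj.η_def]

/-- A clopen set of a base change along a primary extension is saturated. -/
theorem saturated_of_isClopen (hK : AbVar.IsPrimaryExt k K) (X : Over (Spec (CommRingCat.of k)))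
    {S : Set (Red.bc (AbVar.ext k K) X).left} (hS : IsClopen S) :
    (pr (K := K) X) ⁻¹' ((pr (K := K) X) '' S) = S := by
  refine Set.Subset.antisymm (fun y hy => ?_) (Set.subset_preimage_image _ _)
  obtain ⟨y', hy', he⟩ := hy
  haveI : GeometricallyIrreducible (AbVar.ext k K) := geometricallyIrreducible_ext hK
  haveI : GeometricallyIrreducible (pr (K := K) X) :=
    inferInstanceAs (GeometricallyIrreducible (pullback.fst X.hom (AbVar.ext k K)))
  have hirr : IsIrreducible ((pr (K := K) X) ⁻¹' {(pr (K := K) X) y}) :=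
    (pr (K := K) X).isIrreducible_preimage (isOpenMap_pr X) isIrreducible_singleton
  exact (hirr.isConnected.isPreconnected.subset_isClopen hS ⟨y', he, hy'⟩) rfl

/-- A finite etale isogeny onto the base change of an abelian variety along a primary extension
descends. -/
theorem exists_descent_isogeny (hK : AbVar.IsPrimaryExt k K)
    (A₀ : Over (Spec (CommRingCat.of k))) [GrpObj A₀] [IsProper A₀.hom] [GeometricallyIntegral A₀.hom]
    (B : Over (Spec (CommRingCat.of K))) [GrpObj B] [IsProper B.hom] [GeometricallyIntegral B.hom]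
    (ν : B ⟶ Red.bc (AbVar.ext k K) A₀) [IsMonHom ν] [Surjective ν.left] [Etale ν.left] [IsFinite ν.left] :
    ∃ (Q : Over (Spec (CommRingCat.of k))) (_ : GrpObj Q), IsProper Q.hom ∧ GeometricallyIntegral Q.hom ∧
      ∃ e : Red.bc (AbVar.ext k K) Q ≅ B, IsMonHom e.hom := by
  let F := Over.pullback (AbVar.ext k K)
  let A' := Red.bc (AbVar.ext k K) A₀
  haveI := isCommMonObj_of_isProper_of_geometricallyIntegral A₀
  haveI := isCommMonObj_of_isProper_of_geometricallyIntegral B
  haveI : IsProper A'.hom := GrpSch.bc_hom_of (P := @IsProper) (AbVar.ext k K) A₀ inferInstance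
  haveI : GeometricallyIntegral A'.hom :=
    GrpSch.bc_hom_of (P := @GeometricallyIntegral) (AbVar.ext k K) A₀ inferInstance
  haveI := isCommMonObj_of_isProper_of_geometricallyIntegral A'
  -- the kernel of `ν`
  obtain ⟨N, _, iN, hiN, hN, -⟩ := IsogenyFactor.exists_kernel ν
  haveI := hiN
  haveI : Mono iN := GrpQ.kernel_mono hN
  haveI : Etale N.hom := KernelSquare.hom_of ν iN hN (P := @Etale) inferInstance
  haveI := isOpenImmersion_unit N
  -- its exponent
  let b : Spec (CommRingCat.of (AlgebraicClosure K)) ⟶ Spec (CommRingCat.of K) :=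
    Spec.map (CommRingCat.ofHom (algebraMap K (AlgebraicClosure K)))
  let Φ : (Over.mk b ⟶ B) →* (Over.mk b ⟶ A') :=
    { toFun := fun x => x ≫ ν
      map_one' := MonObj.one_comp ν
      map_mul' := fun x y => MonObj.mul_comp x y ν }
  haveI : Finite Φ.ker := (AVPoints.finite_fibre b ν (1 : Over.mk b ⟶ A')).to_subtype
  let n := Nat.card Φ.ker
  have hn : 0 < n := Nat.card_pos
  haveI hψ := NPowEtale.isMonHom_pow_id B n
  obtain ⟨ρ, hρh, hρ⟩ := Factor.exists_factor b ν ((𝟙 B : B ⟶ B) ^ n) fun P hP => by
    rw [MonObj.comp_pow, Category.comp_id]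
    exact congrArg Subtype.val (pow_card_eq_one' (x := (⟨P, hP⟩ : Φ.ker)))
  haveI := hρh
  haveI : Epi ν.left := Flat.epi_of_flat_of_surjective ν.left
  haveI : Epi ν := Over.epi_of_epi_left ν
  have hρν : ρ ≫ ν = (𝟙 A' : A' ⟶ A') ^ n := by
    rw [← cancel_epi ν, ← Category.assoc, hρ, MonObj.pow_comp, MonObj.comp_pow, Category.id_comp,
      Category.comp_id]
  haveI : Surjective ρ.left := by
    haveI : Surjective (ν.left ≫ ρ.left) := by
      rw [← Over.comp_left, hρ]; exact (MulIso.nat B hn).2.2
    exact Surjective.of_comp ν.left ρ.left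
  haveI : Flat ρ.left := H2.FlatHom.Field.flat_of_geometricallyReduced ρ
  haveI : LocallyOfFinitePresentation ρ.left := locallyOfFinitePresentation_left ρ
  obtain ⟨H, _, iH, hiH, hH, -⟩ := IsogenyFactor.exists_kernel ρ
  haveI := hiH
  haveI : Mono iH := GrpQ.kernel_mono hH
  -- the torsion
  haveI := NPowEtale.isMonHom_pow_id A₀ n
  obtain ⟨T, _, t, hth, hT, -⟩ := IsogenyFactor.exists_kernel ((𝟙 A₀ : A₀ ⟶ A₀) ^ n)
  haveI := hth
  haveI : IsClosedImmersion η[A₀].left := GrpSch.isClosedImmersion_η A₀
  haveI : IsClosedImmersion t.left :=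
    MorphismProperty.of_isPullback (P := @IsClosedImmersion) (hT.map (Over.forget _)).flip ‹_›
  haveI : IsClosedImmersion η[B].left := GrpSch.isClosedImmersion_η B
  haveI : IsClosedImmersion iH.left :=
    MorphismProperty.of_isPullback (P := @IsClosedImmersion) (hH.map (Over.forget _)).flip ‹_›
  have hTK := map_kernel (K := K) hT
  rw [map_pow, ← hρν] at hTK
  haveI : Mono (F.map t) := GrpQ.kernel_mono hTK
  obtain ⟨h, hh⟩ := (GrpQ.mem_kernel hTK iH).2 (by
    rw [← Category.assoc, GrpQ.kernel_comp hH, MonObj.one_comp])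
  obtain ⟨r, hr⟩ := (GrpQ.mem_kernel hN (F.map t ≫ ρ)).2 (by
    rw [Category.assoc, GrpQ.kernel_comp hTK])
  have hsq : IsPullback h (toUnit H) r η[N] := by
    have hw : h ≫ r = toUnit H ≫ η[N] := by
      rw [← cancel_mono iN, Category.assoc, hr, ← Category.assoc, hh, GrpQ.kernel_comp hH, ← Hom.one_def,
        MonObj.one_comp]
    have hs : ∀ s : PullbackCone r η[N], (s.fst ≫ F.map t) ≫ ρ = 1 := fun s => by
      rw [Category.assoc, ← hr, ← Category.assoc, s.condition, toUnit_unique s.snd (toUnit _),
        ← Hom.one_def, MonObj.one_comp]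
    exact IsPullback.of_isLimit' ⟨hw⟩ (PullbackCone.IsLimit.mk hw
      (fun s => ((GrpQ.mem_kernel hH _).2 (hs s)).choose)
      (fun s => by
        rw [← cancel_mono (F.map t), Category.assoc, hh]
        exact ((GrpQ.mem_kernel hH _).2 (hs s)).choose_spec)
      (fun s => toUnit_unique _ _)
      fun s m hm _ => by
        rw [← cancel_mono iH, ((GrpQ.mem_kernel hH _).2 (hs s)).choose_spec, ← hm, Category.assoc, hh])
  haveI : IsOpenImmersion h.left :=
    MorphismProperty.of_isPullback (P := @IsOpenImmersion) (hsq.map (Over.forget _)).flip ‹_›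
  haveI : IsClosedImmersion h.left := by
    haveI : IsClosedImmersion (h.left ≫ (F.map t).left) := by rw [← Over.comp_left, hh]; infer_instance
    haveI : IsClosedImmersion (F.map t).left := GrpSch.bc_map_left_of (P := @IsClosedImmersion) (AbVar.ext k K) t ‹_›
    exact IsClosedImmersion.of_comp h.left (F.map t).left
  -- descend the open and closed subgroup
  let π := pr (K := K) T
  let S := Set.range h.left
  have hS : IsClopen S := ⟨h.left.isClosedEmbedding.isClosed_range, h.left.isOpenEmbedding.isOpen_range⟩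
  have hsat : π ⁻¹' (π '' S) = S := saturated_of_isClopen hK T hS
  let U : T.left.Opens := ⟨π '' S, isOpenMap_pr T _ hS.2⟩
  have hUc : IsClosed (U : Set T.left) := by
    refine ⟨?_⟩
    rw [show (U : Set T.left)ᶜ = π '' Sᶜ from Set.Subset.antisymm
      (fun x hx => by
        obtain ⟨y, rfl⟩ := π.surjective x
        exact ⟨y, fun hy => hx (Set.mem_image_of_mem _ hy), rfl⟩)
      (by rintro _ ⟨y, hy, rfl⟩ hU; exact hy (hsat.le hU))]
    exact isOpenMap_pr T _ hS.1.isOpen_compl
  let H₀ : Over (Spec (CommRingCat.of k)) := Over.mk (U.ι ≫ T.hom)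
  let j : H₀ ⟶ T := Over.homMk U.ι rfl
  haveI : IsClosedImmersion U.ι :=
    IsClosedImmersion.of_isPreimmersion _ (by rw [Scheme.Opens.range_ι]; exact hUc)
  haveI : IsClosedImmersion j.left := inferInstanceAs (IsClosedImmersion U.ι)
  haveI : IsOpenImmersion j.left := inferInstanceAs (IsOpenImmersion U.ι)
  let i₀ : H₀ ⟶ A₀ := j ≫ t
  haveI : IsClosedImmersion i₀.left := by rw [Over.comp_left]; infer_instance
  haveI : Mono i₀ := Over.mono_of_mono_left _
  haveI : IsOpenImmersion (F.map j).left :=
    GrpSch.bc_map_left_of (P := @IsOpenImmersion) (AbVar.ext k K) j ‹_›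
  have hrj : Set.range (F.map j).left = S := by
    have hsq2 : IsPullback (pr (K := K) H₀) (F.map j).left j.left π := by
      refine IsPullback.of_bot ?_ (map_left_pr j).symm (IsPullback.of_hasPullback T.hom (AbVar.ext k K))
      rw [Over.w j]
      rw [show (F.map j).left ≫ pullback.snd T.hom (AbVar.ext k K) = pullback.snd H₀.hom (AbVar.ext k K) from
        pullback.lift_snd _ _ _]
      exact IsPullback.of_hasPullback H₀.hom (AbVar.ext k K)
    rw [← hsq2.isoPullback_hom_snd, Scheme.Hom.comp_base, TopCat.coe_comp, Set.range_comp,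
      hsq2.isoPullback.hom.surjective.range_eq, Set.image_univ, Scheme.Pullback.range_snd,
      show Set.range j.left = (U : Set T.left) from U.range_ι]
    exact hsat
  let vu : H ⟶ F.obj H₀ := Over.homMk (IsOpenImmersion.lift (F.map j).left h.left hrj.ge) (by
    rw [← Over.w (F.map j), IsOpenImmersion.lift_fac_assoc, Over.w h])
  have hvu : vu ≫ F.map i₀ = iH := by
    rw [Functor.map_comp, ← Category.assoc,
      show vu ≫ F.map j = h from Over.OverMorphism.ext (IsOpenImmersion.lift_fac _ _ _), hh]
  let uv : F.obj H₀ ⟶ H := Over.homMk (IsOpenImmersion.lift h.left (F.map j).left hrj.le) (by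
    rw [← Over.w h, IsOpenImmersion.lift_fac_assoc, Over.w (F.map j)])
  have huv : uv ≫ iH = F.map i₀ := by
    rw [← hh, ← Category.assoc, show uv ≫ h = F.map j from Over.OverMorphism.ext (IsOpenImmersion.lift_fac _ _ _),
      Functor.map_comp]
  have hi₀ρ : F.map i₀ ≫ ρ = 1 := by
    rw [← huv, Category.assoc, GrpQ.kernel_comp hH, MonObj.comp_one]
  have hland : ∀ {V : Over (Spec (CommRingCat.of k))} (φ : V ⟶ A₀),
      F.map φ ≫ ρ = 1 → ∃ ψ : V ⟶ H₀, ψ ≫ i₀ = φ := by
    intro V φ hφ
    obtain ⟨φ', hφ'⟩ := (GrpQ.mem_kernel hH _).2 hφ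
    obtain ⟨φT, rfl⟩ := (GrpQ.mem_kernel hT φ).2 (map_injective (K := K) (by
      rw [Functor.map_comp, map_pow, ← hρν, ← Category.assoc, hφ, MonObj.one_comp, Functor.map_one]))
    have he : F.map φT = φ' ≫ h := by
      rw [← cancel_mono (F.map t), Category.assoc, hh, hφ', Functor.map_comp]
    refine ⟨Over.homMk (IsOpenImmersion.lift U.ι φT.left ?_) (by
      show _ ≫ U.ι ≫ T.hom = _
      rw [IsOpenImmersion.lift_fac_assoc, Over.w φT]), ?_⟩
    · rintro _ ⟨w, rfl⟩
      obtain ⟨w', rfl⟩ := (pr (K := K) V).surjective w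
      rw [Scheme.Opens.range_ι, ← Scheme.Hom.comp_apply, ← map_left_pr, he, Scheme.Hom.comp_apply,
        Over.comp_left, Scheme.Hom.comp_apply]
      exact Set.mem_image_of_mem _ (Set.mem_range_self _)
    · rw [← Category.assoc]
      congr 1
      exact Over.OverMorphism.ext (IsOpenImmersion.lift_fac _ _ _)
  have hfi : ∀ {V : Over (Spec (CommRingCat.of k))} (a : V ⟶ H₀), F.map (a ≫ i₀) ≫ ρ = 1 := fun a => by
    rw [Functor.map_comp, Category.assoc, hi₀ρ, MonObj.comp_one]
  obtain ⟨_, hi₀⟩ := GrpQ.InfSub.exists_grpObj_of_mono i₀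
    (hland η[A₀] (by rw [MonObj.one_eq_one, Functor.map_one, MonObj.one_comp]))
    (hland _ (by rw [Functor.map_mul, MonObj.mul_comp, hfi, hfi, _root_.one_mul]))
    (hland _ (by
      have h1 : F.map i₀⁻¹ ≫ ρ * F.map i₀ ≫ ρ = 1 := by
        rw [← MonObj.mul_comp, ← Functor.map_mul, inv_mul_cancel, Functor.map_one, MonObj.one_comp]
      rwa [hi₀ρ, _root_.mul_one] at h1))
  haveI := hi₀
  -- the quotient
  obtain ⟨Q, _, _, q, hqh, hqf, hqs, hqp, hqk, hQft, -⟩ := CommAlgGrp.exists_quotient i₀
  haveI := hqh; haveI := hqf; haveI := hqs; haveI := hqp; haveI := hQft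
  haveI : Flat (F.map q).left := GrpSch.bc_map_left_of (P := @Flat) (AbVar.ext k K) q ‹_›
  haveI : Surjective (F.map q).left := GrpSch.bc_map_left_of (P := @Surjective) (AbVar.ext k K) q ‹_›
  haveI : LocallyOfFinitePresentation (F.map q).left :=
    GrpSch.bc_map_left_of (P := @LocallyOfFinitePresentation) (AbVar.ext k K) q ‹_›
  haveI : IsMonHom (F.map q) := inferInstance
  obtain ⟨e₁, he₁h, he₁⟩ := CommAlgGrp.exists_desc_of_kernel (F.map q) (map_kernel (K := K) hqk) ρ hi₀ρ
  obtain ⟨e₂, -, he₂⟩ := CommAlgGrp.exists_desc_of_kernel ρ hH (F.map q) (by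
    rw [← hvu, Category.assoc, GrpQ.kernel_comp (map_kernel (K := K) hqk), MonObj.comp_one])
  let e : Red.bc (AbVar.ext k K) Q ≅ B :=
    ⟨e₁, e₂, GrpQ.FfMono.cancel_over (F.map q) (by rw [← Category.assoc, he₁, he₂, Category.comp_id]),
      GrpQ.FfMono.cancel_over ρ (by rw [← Category.assoc, he₂, he₁, Category.comp_id])⟩
  refine ⟨Q, inferInstance, ?_, ?_, e, he₁h⟩
  · haveI : IsSeparated Q.hom := ActSep.isSeparated_of_artinian (A := k) (G := Q)
    haveI : UniversallyClosed (q.left ≫ Q.hom) := by rw [Over.w]; infer_instance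
    haveI : UniversallyClosed Q.hom := UniversallyClosed.of_comp_surjective q.left Q.hom
    exact {}
  · exact geometricallyIntegral_of_cover q

end

end Groth.Agent.H4.Chow
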