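import Groth.Agent.H4.Chow.EtIsog
import Groth.Agent.S7520

/-! A surjective homomorphism of abelian varieties factors through a finite etale isogeny with
connected kernel. -/

set_option autoImplicit false
set_option linter.style.haveILetI false

universe u

open CategoryTheory CategoryTheory.Limits MonoidalCategory CartesianMonoidalCategory AlgebraicGeometry
open scoped MonObj GrpObj
open Groth.Agent.Lib

namespace Groth.Agent.H4.Chow

noncomputable section

variable {K : Type u} [Field K]

theorem exists_etale_factor (A A' : Over (Spec (CommRingCat.of K)))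
    [GrpObj A] [IsProper A.hom] [GeometricallyIntegral A.hom]
    [GrpObj A'] [IsProper A'.hom] [GeometricallyIntegral A'.hom]
    (f : A ⟶ A') [IsMonHom f] [Surjective f.left] :
    ∃ (B : Over (Spec (CommRingCat.of K))) (_ : GrpObj B), IsProper B.hom ∧ GeometricallyIntegral B.hom ∧
      ∃ (mu : A ⟶ B) (ν : B ⟶ A') (G₀ : Over (Spec (CommRingCat.of K))) (_ : GrpObj G₀) (c : G₀ ⟶ A),
        IsMonHom mu ∧ IsMonHom ν ∧ mu ≫ ν = f ∧ Flat mu.left ∧ Surjective mu.left ∧
        LocallyOfFinitePresentation mu.left ∧ IsMonHom c ∧ IsClosedImmersion c.left ∧ AlgGrp.IsKernel c mu ∧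
        IrreducibleSpace G₀.left ∧ Surjective ν.left ∧ Etale ν.left ∧ IsFinite ν.left := by
  haveI := isCommMonObj_of_isProper_of_geometricallyIntegral A
  haveI : IsIntegral A'.left := GeometricallyIntegral.isIntegral_of_subsingleton A'.hom
  obtain ⟨G, _, i, hih, hK', -⟩ := IsogenyFactor.exists_kernel f
  haveI := hih
  haveI : Mono i := GrpQ.kernel_mono hK'
  haveI : IsClosedImmersion η[A'].left := GrpSch.isClosedImmersion_η A'
  haveI : IsClosedImmersion i.left :=
    MorphismProperty.of_isPullback (P := @IsClosedImmersion) (hK'.map (Over.forget _)).flip ‹_›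
  haveI : LocallyOfFiniteType G.hom := by rw [← Over.w i]; infer_instance
  obtain ⟨G₀, _, incl, hinclh, hinclc, hinclf, -, hinclg, -⟩ := Groth.Agent.S7520.result K G
  haveI := hinclh; haveI := hinclc; haveI := hinclf; haveI := hinclg
  haveI : LocallyOfFiniteType G₀.hom := by rw [← Over.w incl]; infer_instance
  haveI : IsOpenImmersion incl.left := by
    haveI := locallyOfFinitePresentation_left incl
    exact IsOpenImmersion.of_flat_of_mono _
  let c : G₀ ⟶ A := incl ≫ i
  haveI : IsClosedImmersion c.left := by rw [Over.comp_left]; infer_instance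
  obtain ⟨B, _, _, mu, hmuh, hmuf, hmus, hmup, hmuk, hBft, -⟩ := CommAlgGrp.exists_quotient c
  haveI := hmuh; haveI := hmuf; haveI := hmus; haveI := hmup; haveI := hBft
  haveI : IsSeparated B.hom := ActSep.isSeparated_of_artinian (A := K) (G := B)
  haveI : UniversallyClosed B.hom := by
    haveI : UniversallyClosed (mu.left ≫ B.hom) := by rw [Over.w]; infer_instance
    exact UniversallyClosed.of_comp_surjective mu.left B.hom
  haveI : IsProper B.hom := {}
  haveI : GeometricallyIntegral B.hom := geometricallyIntegral_of_cover mu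
  obtain ⟨ν, hνh, hν⟩ := CommAlgGrp.exists_desc_of_kernel mu hmuk f (by
    rw [Category.assoc, GrpQ.kernel_comp hK', MonObj.comp_one])
  haveI := hνh
  haveI : Surjective ν.left := by
    haveI : Surjective (mu.left ≫ ν.left) := by rw [← Over.comp_left, hν]; infer_instance
    exact Surjective.of_comp mu.left ν.left
  haveI : IsProper (ν.left ≫ A'.hom) := by rw [Over.w]; infer_instance
  haveI : IsProper ν.left := IsProper.of_comp ν.left A'.hom
  haveI : Flat ν.left := H2.FlatHom.Field.flat_of_geometricallyReduced ν
  -- `ν` is etale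
  obtain ⟨N, _, iN, hiN, hN, -⟩ := IsogenyFactor.exists_kernel ν
  haveI := hiN
  haveI : Mono iN := GrpQ.kernel_mono hN
  haveI : LocallyOfFiniteType N.hom :=
    KernelSquare.hom_of ν iN hN (P := @LocallyOfFiniteType) inferInstance
  obtain ⟨q, hq⟩ := (GrpQ.mem_kernel hN (i ≫ mu)).2 (by
    rw [Category.assoc, hν, GrpQ.kernel_comp hK'])
  have hqsq : IsPullback q i iN mu := by
    have hs : ∀ s : PullbackCone iN mu, ∃ l, l ≫ i = s.snd := fun s => (GrpQ.mem_kernel hK' s.snd).2 (by
      rw [← hν, ← Category.assoc, ← s.condition, Category.assoc, GrpQ.kernel_comp hN, MonObj.comp_one])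
    refine IsPullback.of_isLimit' ⟨hq⟩ (PullbackCone.IsLimit.mk hq (fun s => (hs s).choose)
      (fun s => ?_) (fun s => (hs s).choose_spec) fun s m _ hm => ?_)
    · rw [← cancel_mono iN, Category.assoc, hq, ← Category.assoc, (hs s).choose_spec]
      exact s.condition.symm
    · rw [← cancel_mono i, hm, (hs s).choose_spec]
  have hqs' := (hqsq.map (Over.forget _)).flip
  haveI : Flat q.left := MorphismProperty.of_isPullback (P := @Flat) hqs' hmuf
  haveI : Surjective q.left := MorphismProperty.of_isPullback (P := @Surjective) hqs' hmus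
  haveI : QuasiCompact mu.left := by
    haveI : IsProper (mu.left ≫ B.hom) := by rw [Over.w]; infer_instance
    haveI : IsProper mu.left := IsProper.of_comp mu.left B.hom
    infer_instance
  haveI : QuasiCompact q.left := MorphismProperty.of_isPullback (P := @QuasiCompact) hqs' ‹_›
  have hsq : IsPullback incl (toUnit G₀) q η[N] := by
    have h1 : incl ≫ q = toUnit G₀ ≫ η[N] := by
      rw [← cancel_mono iN, Category.assoc, hq, ← Category.assoc, GrpQ.kernel_comp hmuk, ← Hom.one_def,
        MonObj.one_comp]
    haveI : Mono c := Over.mono_of_mono_left _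
    have hs : ∀ s : PullbackCone q η[N], ∃ l, l ≫ c = s.fst ≫ i := fun s =>
      (GrpQ.mem_kernel hmuk (s.fst ≫ i)).2 (by
        rw [Category.assoc, ← hq, ← Category.assoc, s.condition, toUnit_unique s.snd (toUnit _),
          ← Hom.one_def, MonObj.one_comp])
    refine IsPullback.of_isLimit' ⟨h1⟩ (PullbackCone.IsLimit.mk h1 (fun s => (hs s).choose)
      (fun s => ?_) (fun s => toUnit_unique _ _) fun s m hm _ => ?_)
    · rw [← cancel_mono i, Category.assoc]
      exact (hs s).choose_spec
    · rw [← cancel_mono c, (hs s).choose_spec, ← Category.assoc, hm]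
  haveI : IsOpenImmersion η[N].left :=
    MorphismProperty.DescendsAlong.of_isPullback (P := @IsOpenImmersion)
      (Q := @Surjective ⊓ @Flat ⊓ @QuasiCompact) (hsq.map (Over.forget _))
      ⟨⟨‹Surjective q.left›, ‹Flat q.left›⟩, ‹QuasiCompact q.left›⟩ ‹IsOpenImmersion incl.left›
  haveI := etale_of_isOpenImmersion_unit N
  haveI : Etale ν.left := KernelSquare.left_of_hom ν iN hN (P := @Etale) ‹_›
  haveI : LocallyQuasiFinite ν.left := NPowEtale.locallyQuasiFinite_of_formallyUnramified _
  haveI : IsFinite ν.left := IsFinite.of_isProper_of_locallyQuasiFinite _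
  haveI : IrreducibleSpace G₀.left := GeometricallyIrreducible.irreducibleSpace_of_subsingleton G₀.hom
  exact ⟨B, inferInstance, inferInstance, inferInstance, mu, ν, G₀, inferInstance, c, hmuh, hνh, hν, hmuf, hmus,
    hmup, inferInstance, inferInstance, hmuk, inferInstance, inferInstance, inferInstance, inferInstance⟩

end

end Groth.Agent.H4.Chow
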