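import Groth.Agent.H4.Chow.Descend

/-! Homomorphisms of abelian varieties descend along primary field extensions. -/

set_option autoImplicit false
set_option linter.style.haveILetI false

universe u

open CategoryTheory CategoryTheory.Limits MonoidalCategory CartesianMonoidalCategory AlgebraicGeometry
open scoped MonObj GrpObj
open Groth.Agent.Lib

namespace Groth.Agent.H4.Chow

noncomputable section

variable {k K : Type u} [Field k] [Field K] [Algebra k K]

theorem isProper_prod (A B : Over (Spec (CommRingCat.of k))) [IsProper A.hom] [IsProper B.hom] :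
    IsProper (A ⊗ B).hom :=
  inferInstanceAs (IsProper (pullback.fst A.hom B.hom ≫ A.hom))

theorem geometricallyIntegral_prod (A B : Over (Spec (CommRingCat.of k))) [GrpObj A] [GrpObj B]
    [IsProper A.hom] [IsProper B.hom] [GeometricallyIntegral A.hom] [GeometricallyIntegral B.hom] :
    GeometricallyIntegral (A ⊗ B).hom := by
  haveI := isProper_prod A B
  haveI : GeometricallyReduced (A ⊗ B).hom :=
    H52.FBase.GeomRedSch.geometricallyReduced_prod A.hom B.hom
  haveI : IsIntegral A.left := GeometricallyIntegral.isIntegral_of_subsingleton A.hom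
  haveI : IsIntegral B.left := GeometricallyIntegral.isIntegral_of_subsingleton B.hom
  haveI : IsLocallyNoetherian B.left := LocallyOfFiniteType.isLocallyNoetherian B.hom
  haveI : UniversallyOpen A.hom := inferInstance
  haveI : IsIntegral (A ⊗ B).left := inferInstanceAs (IsIntegral (pullback A.hom B.hom))
  exact HomImage.geometricallyIntegral_of_connected (A ⊗ B)

theorem map_injective {X Y : Over (Spec (CommRingCat.of k))} :
    Function.Injective ((Over.pullback (AbVar.ext k K)).map (X := X) (Y := Y)) := by
  intro f g h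
  apply Over.OverMorphism.ext
  haveI : Flat (pr (K := K) X) := inferInstanceAs (Flat (pullback.fst X.hom (AbVar.ext k K)))
  haveI : Epi (pr (K := K) X) := Flat.epi_of_flat_of_surjective _
  rw [← cancel_epi (pr (K := K) X), ← map_left_pr, ← map_left_pr, h]

/-- A homomorphism whose base change is one is a homomorphism. -/
theorem isMonHom_of_map {X Y : Over (Spec (CommRingCat.of k))} [GrpObj X] [GrpObj Y] (f : X ⟶ Y)
    [IsMonHom ((Over.pullback (AbVar.ext k K)).map f)] : IsMonHom f := by
  constructor
  · apply map_injective (K := K)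
    rw [Functor.map_comp, ← cancel_epi (Functor.LaxMonoidal.ε (Over.pullback (AbVar.ext k K)))]
    have h := IsMonHom.one_hom (f := (Over.pullback (AbVar.ext k K)).map f)
    simp only [Functor.obj.η_def, Category.assoc] at h
    exact h
  · apply map_injective (K := K)
    rw [Functor.map_comp, Functor.map_comp, ← cancel_epi (Functor.LaxMonoidal.μ (Over.pullback (AbVar.ext k K)) X X)]
    have h := IsMonHom.mul_hom (f := (Over.pullback (AbVar.ext k K)).map f)
    simp only [Functor.obj.μ_def, Category.assoc] at h
    rw [h, Functor.LaxMonoidal.μ_natural_assoc]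

/-- Chow: a homomorphism between base changes along a primary extension is defined over the ground
field. -/
theorem exists_hom_descent (hK : AbVar.IsPrimaryExt k K) {A B : Over (Spec (CommRingCat.of k))}
    [GrpObj A] [GrpObj B] [IsProper A.hom] [IsProper B.hom] [GeometricallyIntegral A.hom]
    [GeometricallyIntegral B.hom]
    (f : Red.bc (AbVar.ext k K) A ⟶ Red.bc (AbVar.ext k K) B) [IsMonHom f] :
    ∃ f₀ : A ⟶ B, IsMonHom f₀ ∧ (Over.pullback (AbVar.ext k K)).map f₀ = f := by
  let F := Over.pullback (AbVar.ext k K)
  haveI := isProper_prod A B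
  haveI := geometricallyIntegral_prod A B
  let gr : Red.bc (AbVar.ext k K) A ⟶ Red.bc (AbVar.ext k K) (A ⊗ B) :=
    lift (𝟙 _) f ≫ Functor.LaxMonoidal.μ F A B
  have hgr1 : gr ≫ F.map (fst A B) = 𝟙 _ := by
    simp [gr, F, Functor.Monoidal.μ_fst]
  have hgr2 : gr ≫ F.map (snd A B) = f := by
    simp [gr, F, Functor.Monoidal.μ_snd]
  have hjm : ∀ {W : Over (Spec (CommRingCat.of K))} (u v : W ⟶ F.obj (A ⊗ B)),
      u ≫ F.map (fst A B) = v ≫ F.map (fst A B) → u ≫ F.map (snd A B) = v ≫ F.map (snd A B) → u = v := by
    intro W u v h1 h2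
    rw [← cancel_mono (Functor.OplaxMonoidal.δ F A B)]
    apply CartesianMonoidalCategory.hom_ext <;>
      simpa [Functor.OplaxMonoidal.δ_fst, Functor.OplaxMonoidal.δ_snd]
  haveI : IsMonHom (F.map (fst A B)) := inferInstance
  haveI : IsMonHom (F.map (snd A B)) := inferInstance
  haveI : IsMonHom gr := by
    constructor
    · apply hjm <;> simp only [Category.assoc, hgr1, hgr2, Category.comp_id, IsMonHom.one_hom]
    · apply hjm <;> simp only [Category.assoc, hgr1, hgr2, Category.comp_id, IsMonHom.mul_hom,
        MonoidalCategory.tensorHom_comp_tensorHom_assoc]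
      all_goals simp
  haveI : IsClosedImmersion gr.left := by
    haveI : IsSeparated ((F.map (fst A B)).left ≫ (Red.bc (AbVar.ext k K) A).hom) := by
      rw [Over.w]; infer_instance
    haveI : IsSeparated (F.map (fst A B)).left :=
      IsSeparated.of_comp (F.map (fst A B)).left (Red.bc (AbVar.ext k K) A).hom
    haveI : IsClosedImmersion (gr.left ≫ (F.map (fst A B)).left) := by
      rw [← Over.comp_left, hgr1]; exact (inferInstance : IsClosedImmersion (𝟙 _))
    exact IsClosedImmersion.of_comp gr.left (F.map (fst A B)).left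
  obtain ⟨C, _, i, _, _, _, _, e, he⟩ := exists_descent (A ⊗ B) (Red.bc (AbVar.ext k K) A) gr hK
  have hp : F.map (i ≫ fst A B) = e.hom := by
    rw [Functor.map_comp, ← he, Category.assoc, hgr1, Category.comp_id]
  haveI : IsIso (F.map (i ≫ fst A B)) := by rw [hp]; infer_instance
  haveI : IsIso (i ≫ fst A B) := GrpSch.isIso_of_isIso_bc_map k K (i ≫ fst A B)
  have hf : F.map (inv (i ≫ fst A B) ≫ i ≫ snd A B) = f := by
    rw [Functor.map_comp, Functor.map_inv, IsIso.inv_comp_eq, Functor.map_comp, ← he, Category.assoc,
      hgr2, hp]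
  refine ⟨inv (i ≫ fst A B) ≫ i ≫ snd A B, ?_, hf⟩
  haveI : IsMonHom ((Over.pullback (AbVar.ext k K)).map (inv (i ≫ fst A B) ≫ i ≫ snd A B)) := by
    rw [hf]; infer_instance
  exact isMonHom_of_map (K := K) _

end

end Groth.Agent.H4.Chow
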