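import Groth.Agent.H4.Chow.Hom
import Groth.Agent.H4.IdealAcc
import Groth.Agent.H2.FlatHom.Field
import Mathlib.AlgebraicGeometry.ZariskisMainTheorem

/-! Existence of the image of an abelian variety along a primary extension. -/

set_option autoImplicit false
set_option linter.style.haveILetI false

universe u

open CategoryTheory CategoryTheory.Limits MonoidalCategory CartesianMonoidalCategory AlgebraicGeometry
open scoped MonObj GrpObj
open Groth.Agent.Lib

namespace Groth.Agent.H4.Chow

noncomputable section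

section Ker

variable {k : Type u} [Field k]

/-- The kernel inclusion of a homomorphism, as a morphism of schemes. -/
abbrev kerIncl {A B : Over (Spec (CommRingCat.of k))} [GrpObj B] (f : A ⟶ B) :
    pullback η[B].left f.left ⟶ A.left :=
  pullback.snd η[B].left f.left

theorem isClosedImmersion_kerIncl {A B : Over (Spec (CommRingCat.of k))} [GrpObj B] [IsSeparated B.hom]
    (f : A ⟶ B) : IsClosedImmersion (kerIncl f) := by
  haveI : IsClosedImmersion (η[B].left ≫ B.hom) := by
    rw [Over.w η[B]]; exact (inferInstance : IsClosedImmersion (𝟙 (Spec (CommRingCat.of k))))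
  haveI : IsClosedImmersion η[B].left := IsClosedImmersion.of_comp η[B].left B.hom
  exact inferInstanceAs (IsClosedImmersion (pullback.snd η[B].left f.left))

theorem comp_eq_one_iff {A B T : Over (Spec (CommRingCat.of k))} [GrpObj B] (f : A ⟶ B) (a : T ⟶ A) :
    a ≫ f = 1 ↔ ∃ l : T.left ⟶ pullback η[B].left f.left, l ≫ kerIncl f = a.left := by
  have hone : (1 : T ⟶ B).left = T.hom ≫ η[B].left := by
    rw [Hom.one_def, Over.comp_left, Over.toUnit_left]
  constructor
  · intro h
    refine ⟨pullback.lift T.hom a.left ?_, pullback.lift_snd _ _ _⟩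
    rw [← hone, ← h]
    rfl
  · rintro ⟨l, hl⟩
    apply Over.OverMorphism.ext
    rw [Over.comp_left, hone, ← hl, Category.assoc, ← pullback.condition, ← Category.assoc]
    congr 1
    conv_lhs => rw [← Category.comp_id (l ≫ _), ← show η[B].left ≫ B.hom = 𝟙 _ from Over.w η[B]]
    rw [Category.assoc, pullback.condition_assoc, Over.w f, ← Category.assoc, hl, Over.w a]

/-- A surjective homomorphism of proper groups with trivial kernel onto a reduced one is an
isomorphism. -/
theorem isIso_of_trivial_kernel {C' C : Over (Spec (CommRingCat.of k))} [GrpObj C'] [GrpObj C]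
    [IsProper C'.hom] [IsProper C.hom] [IsReduced C.left] (ψ : C' ⟶ C) [IsMonHom ψ] [Surjective ψ.left]
    (h : ∀ (T : Over (Spec (CommRingCat.of k))) (c : T ⟶ C'), c ≫ ψ = 1 → c = 1) : IsIso ψ := by
  haveI : Mono ψ := ⟨fun {T} f g hfg => by
    have := h T (f / g) (by rw [GrpObj.div_comp, hfg, div_self'])
    exact div_eq_one.1 this⟩
  haveI : Mono ψ.left := Over.mono_left_of_mono ψ
  haveI : IsProper (ψ.left ≫ C.hom) := by rw [Over.w ψ]; infer_instance
  haveI : IsProper ψ.left := IsProper.of_comp ψ.left C.hom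
  haveI : FormallyUnramified ψ.left := inferInstance
  haveI : LocallyQuasiFinite ψ.left := NPowEtale.locallyQuasiFinite_of_formallyUnramified _
  haveI : IsFinite ψ.left := IsFinite.of_isProper_of_locallyQuasiFinite ψ.left
  haveI : IsClosedImmersion ψ.left := (IsClosedImmersion.iff_isFinite_and_mono _).2 ⟨‹_›, ‹_›⟩
  haveI : IsIso ((Over.forget _).map ψ) := isIso_of_isClosedImmersion_of_surjective ψ.left
  exact isIso_of_reflects_iso ψ (Over.forget _)

end Ker

variable {k K : Type u} [Field k] [Field K] [Algebra k K]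

/-- A surjective homomorphism from `A` to the base change of an abelian variety over `k`. -/
structure Quot (k : Type u) {K : Type u} [Field k] [Field K] [Algebra k K]
    (A : Over (Spec (CommRingCat.of K))) [GrpObj A] : Type (u + 1) where
  C : Over (Spec (CommRingCat.of k))
  grp : GrpObj C
  proper : IsProper C.hom
  geomInt : GeometricallyIntegral C.hom
  lam : A ⟶ Red.bc (AbVar.ext k K) C
  hom : IsMonHom lam
  surj : Surjective lam.left

attribute [local instance] Quot.grp Quot.proper Quot.geomInt Quot.hom Quot.surj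

/-- The ideal of the kernel. -/
def Quot.ker {A : Over (Spec (CommRingCat.of K))} [GrpObj A] (Q : Quot k A) : A.left.IdealSheafData :=
  (kerIncl Q.lam).ker

/-- Existence of the image. -/
theorem exists_image (hK : AbVar.IsPrimaryExt k K)
    (A : Over (Spec (CommRingCat.of K))) [GrpObj A] [IsProper A.hom] [GeometricallyIntegral A.hom] :
    ∃ (A₀ : Over (Spec (CommRingCat.of k))) (_ : GrpObj A₀),
      IsProper A₀.hom ∧ GeometricallyIntegral A₀.hom ∧
        ∃ lam : A ⟶ Red.bc (AbVar.ext k K) A₀, AbVar.IsChowImage k K A A₀ lam := by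
  let F := Over.pullback (AbVar.ext k K)
  haveI : IsIntegral A.left := GeometricallyIntegral.isIntegral_of_subsingleton A.hom
  haveI : IsLocallyNoetherian A.left := LocallyOfFiniteType.isLocallyNoetherian A.hom
  haveI : CompactSpace A.left := QuasiCompact.compactSpace_of_compactSpace A.hom
  haveI := IdealAcc.wellFoundedGT A.left
  haveI : Nonempty (Quot k A) := by
    haveI : IsProper (𝟙_ (Over (Spec (CommRingCat.of k)))).hom :=
      inferInstanceAs (IsProper (𝟙 (Spec (CommRingCat.of k))))
    haveI : GeometricallyIntegral (𝟙_ (Over (Spec (CommRingCat.of k)))).hom := by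
      show GeometricallyIntegral (𝟙 (Spec (CommRingCat.of k)))
      refine ⟨fun L _ y P f g h => ?_⟩
      haveI : IsIso g :=
        MorphismProperty.of_isPullback (P := MorphismProperty.isomorphisms Scheme.{u}) h
          (inferInstanceAs (IsIso (𝟙 (Spec (CommRingCat.of k)))))
      haveI : Nonempty P := g.homeomorph.surjective.nonempty
      exact isIntegral_of_isOpenImmersion g
    refine ⟨⟨𝟙_ _, inferInstance, inferInstance, inferInstance, 1, inferInstance, ⟨fun y => ?_⟩⟩⟩
    haveI : IsIso (Red.bc (AbVar.ext k K) (𝟙_ (Over (Spec (CommRingCat.of k))))).hom := by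
      show IsIso (pullback.snd (𝟙 (Spec (CommRingCat.of k))) (AbVar.ext k K))
      infer_instance
    obtain ⟨a⟩ : Nonempty A.left := inferInstance
    exact ⟨a, (Red.bc (AbVar.ext k K) (𝟙_ (Over (Spec (CommRingCat.of k))))).hom.homeomorph.injective
      (Subsingleton.elim (α := PrimeSpectrum K) _ _)⟩
  obtain ⟨_, ⟨Q, rfl⟩, hmax⟩ := (wellFounded_gt (α := A.left.IdealSheafData)).has_min
    (Set.range (Quot.ker (k := k) (A := A))) (Set.range_nonempty _)
  refine ⟨Q.C, Q.grp, Q.proper, Q.geomInt, Q.lam, Q.hom, Q.surj, fun B _ _ _ α _ => ?_⟩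
  haveI := isProper_prod Q.C B
  haveI := geometricallyIntegral_prod Q.C B
  let gr : A ⟶ Red.bc (AbVar.ext k K) (Q.C ⊗ B) := lift Q.lam α ≫ Functor.LaxMonoidal.μ F Q.C B
  have hgr1 : gr ≫ F.map (fst Q.C B) = Q.lam := by simp [gr, F, Functor.Monoidal.μ_fst]
  have hgr2 : gr ≫ F.map (snd Q.C B) = α := by simp [gr, F, Functor.Monoidal.μ_snd]
  have hjm : ∀ {W : Over (Spec (CommRingCat.of K))} (u v : W ⟶ F.obj (Q.C ⊗ B)),
      u ≫ F.map (fst Q.C B) = v ≫ F.map (fst Q.C B) → u ≫ F.map (snd Q.C B) = v ≫ F.map (snd Q.C B) →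
        u = v := by
    intro W u v h1 h2
    rw [← cancel_mono (Functor.OplaxMonoidal.δ F Q.C B)]
    apply CartesianMonoidalCategory.hom_ext <;>
      simpa [Functor.OplaxMonoidal.δ_fst, Functor.OplaxMonoidal.δ_snd]
  haveI : IsMonHom (F.map (fst Q.C B)) := inferInstance
  haveI : IsMonHom (F.map (snd Q.C B)) := inferInstance
  haveI : IsMonHom gr := by
    constructor
    · apply hjm <;> simp only [Category.assoc, hgr1, hgr2, IsMonHom.one_hom]
    · apply hjm <;> simp only [Category.assoc, hgr1, hgr2, IsMonHom.mul_hom,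
        MonoidalCategory.tensorHom_comp_tensorHom_assoc]
  obtain ⟨M, _, iM, _, _, _, _, hrange⟩ :=
    HomImage.exists_image (Red.bc (AbVar.ext k K) (Q.C ⊗ B)) A gr
  haveI : Mono iM := Over.mono_of_mono_left _
  obtain ⟨π, hπ⟩ := HomImage.exists_factor iM gr hrange.ge
  haveI : IsMonHom π := by
    constructor
    · rw [← cancel_mono iM, Category.assoc, hπ, IsMonHom.one_hom, IsMonHom.one_hom]
    · rw [← cancel_mono iM, Category.assoc, hπ, IsMonHom.mul_hom, Category.assoc, IsMonHom.mul_hom,
        MonoidalCategory.tensorHom_comp_tensorHom_assoc, hπ]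
  haveI : Surjective π.left := ⟨fun y => by
    obtain ⟨x, hx⟩ : iM.left y ∈ Set.range gr.left := hrange.le (Set.mem_range_self y)
    refine ⟨x, iM.left.isClosedEmbedding.injective ?_⟩
    rw [← Scheme.Hom.comp_apply, ← Over.comp_left, hπ, hx]⟩
  obtain ⟨C', _, i', _, _, _, _, e, he⟩ := exists_descent (Q.C ⊗ B) M iM hK
  haveI : IsMonHom e.hom := by
    constructor <;> rw [← cancel_mono iM] <;>
      simp only [Category.assoc, he, IsMonHom.one_hom, IsMonHom.mul_hom,
        MonoidalCategory.tensorHom_comp_tensorHom_assoc]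
  haveI : IsMonHom e.inv := inferInstance
  haveI : Surjective e.inv.left := by
    haveI : IsIso e.inv.left := inferInstanceAs (IsIso ((Over.forget _).map e.inv))
    infer_instance
  let Q' : Quot k A := ⟨C', inferInstance, inferInstance, inferInstance, π ≫ e.inv, inferInstance, by
    rw [Over.comp_left]; infer_instance⟩
  let p : C' ⟶ Q.C := i' ≫ fst Q.C B
  have hlam : (π ≫ e.inv) ≫ F.map p = Q.lam := by
    rw [Functor.map_comp, ← he]
    simp only [Category.assoc, Iso.inv_hom_id_assoc]
    rw [← Category.assoc, hπ, hgr1]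
  haveI := isClosedImmersion_kerIncl (π ≫ e.inv)
  haveI := isClosedImmersion_kerIncl Q.lam
  have hle : Q.ker ≤ Q'.ker := by
    let T : Over (Spec (CommRingCat.of K)) := Over.mk (kerIncl (π ≫ e.inv) ≫ A.hom)
    let a : T ⟶ A := Over.homMk (kerIncl (π ≫ e.inv)) rfl
    have ha : a ≫ (π ≫ e.inv) = 1 := (comp_eq_one_iff _ a).2 ⟨𝟙 _, Category.id_comp _⟩
    obtain ⟨l, hl⟩ := (comp_eq_one_iff Q.lam a).1 (by
      rw [← hlam, ← Category.assoc, ha, MonObj.one_comp])
    show (kerIncl Q.lam).ker ≤ (kerIncl (π ≫ e.inv)).ker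
    rw [show kerIncl (π ≫ e.inv) = l ≫ kerIncl Q.lam from hl.symm]
    exact Scheme.Hom.le_ker_comp _ _
  have heq : Q'.ker = Q.ker :=
    ((hle.lt_or_eq).resolve_left fun hlt => hmax _ ⟨Q', rfl⟩ hlt).symm
  haveI : IsIso (F.map p) := by
    haveI : IsMonHom (F.map p) := inferInstance
    haveI : Surjective ((π ≫ e.inv).left ≫ (F.map p).left) := by
      rw [← Over.comp_left, hlam]; exact Q.surj
    haveI : Surjective (F.map p).left := Surjective.of_comp (π ≫ e.inv).left (F.map p).left
    haveI : IsIntegral (Red.bc (AbVar.ext k K) Q.C).left :=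
      GeometricallyIntegral.isIntegral_of_subsingleton (Red.bc (AbVar.ext k K) Q.C).hom
    refine isIso_of_trivial_kernel (F.map p) fun T c hc => ?_
    haveI : Surjective (π ≫ e.inv).left := Q'.surj
    haveI : Flat (π ≫ e.inv).left := H2.FlatHom.Field.flat_of_geometricallyReduced (π ≫ e.inv)
    haveI : QuasiCompact (π ≫ e.inv).left := by
      haveI : IsProper ((π ≫ e.inv).left ≫ (Red.bc (AbVar.ext k K) C').hom) := by
        rw [Over.w]; infer_instance
      haveI : IsProper (π ≫ e.inv).left := IsProper.of_comp _ (Red.bc (AbVar.ext k K) C').hom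
      infer_instance
    let T' : Over (Spec (CommRingCat.of K)) := Over.mk (pullback.fst c.left (π ≫ e.inv).left ≫ T.hom)
    let t : T' ⟶ T := Over.homMk (pullback.fst c.left (π ≫ e.inv).left) rfl
    let a : T' ⟶ A := Over.homMk (pullback.snd c.left (π ≫ e.inv).left) (by
      show _ = pullback.fst c.left (π ≫ e.inv).left ≫ T.hom
      rw [← Over.w c, pullback.condition_assoc, Over.w (π ≫ e.inv)])
    have hta : t ≫ c = a ≫ (π ≫ e.inv) := Over.OverMorphism.ext pullback.condition
    obtain ⟨l, hl⟩ := (comp_eq_one_iff Q.lam a).1 (by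
      rw [← hlam, ← Category.assoc, ← hta, Category.assoc, hc, MonObj.comp_one])
    have ha : a ≫ (π ≫ e.inv) = 1 := (comp_eq_one_iff _ a).2
      ⟨l ≫ IsClosedImmersion.lift (kerIncl (π ≫ e.inv)) (kerIncl Q.lam)
        (show (kerIncl (π ≫ e.inv)).ker ≤ (kerIncl Q.lam).ker from heq.le), by
        rw [Category.assoc, IsClosedImmersion.lift_fac, hl]⟩
    haveI : Epi t.left := Flat.epi_of_flat_of_surjective (pullback.fst c.left (π ≫ e.inv).left)
    haveI : Epi t := (Over.forget _).epi_of_epi_map (inferInstanceAs (Epi t.left))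
    rw [← cancel_epi t, hta, ha, MonObj.comp_one]
  haveI : IsIso p := GrpSch.isIso_of_isIso_bc_map k K p
  haveI : IsMonHom p := inferInstance
  haveI : IsMonHom (inv p) := by
    haveI : IsMonHom (asIso p).hom := ‹IsMonHom p›
    exact inferInstanceAs (IsMonHom (asIso p).inv)
  refine ⟨inv p ≫ i' ≫ snd Q.C B, inferInstance, ?_⟩
  show Q.lam ≫ F.map (inv p ≫ i' ≫ snd Q.C B) = α
  rw [Functor.map_comp, Functor.map_inv, ← hlam]
  simp only [Category.assoc, IsIso.hom_inv_id_assoc]
  rw [Functor.map_comp, ← he]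
  simp only [Category.assoc, Iso.inv_hom_id_assoc]
  rw [← Category.assoc, hπ, hgr2]

end

end Groth.Agent.H4.Chow
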