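import Groth.Agent.H4.Chow.Factor
import Groth.Agent.H4.KernelSquare
import Groth.Agent.S7790
import Groth.Agent.Lib.GrpdGen.Stabilizer
import Mathlib.AlgebraicGeometry.Morphisms.FlatDescent

/-! Homomorphisms with finite connected kernel are universally injective; subvarieties of full
dimension in a kernel. -/

set_option autoImplicit false
set_option linter.style.haveILetI false

universe u

open CategoryTheory CategoryTheory.Limits MonoidalCategory CartesianMonoidalCategory AlgebraicGeometry
open scoped MonObj GrpObj
open Groth.Agent.Lib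

namespace Groth.Agent.H4.Chow

noncomputable section

variable {K : Type u} [Field K]

/-- A finite connected group over a field is universally injective over it. -/
theorem universallyInjective_hom (G : Over (Spec (CommRingCat.of K))) [GrpObj G] [IsFinite G.hom]
    [ConnectedSpace G.left] : UniversallyInjective G.hom := by
  haveI : GeometricallyConnected G.hom :=
    GrpSch.geometricallyConnected_of_rationalPoint G.hom η[G].left (Over.w η[G])
  rw [universallyInjective_iff]
  intro X' Y' i₁ i₂ f' h
  haveI : IsFinite f' := MorphismProperty.of_isPullback (P := @IsFinite) h.flip inferInstance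
  haveI : GeometricallyConnected f' :=
    MorphismProperty.of_isPullback (P := @GeometricallyConnected) h.flip inferInstance
  intro a b hab
  haveI : PreconnectedSpace ↥(f' ⁻¹' {f' b}) :=
    Subtype.preconnectedSpace (f'.isConnected_preimage_singleton (f' b)).isPreconnected
  haveI := (f'.isDiscrete_preimage_singleton (f' b)).1
  exact congrArg Subtype.val (PreconnectedSpace.trivial_of_discrete.elim
    (⟨a, hab⟩ : ↥(f' ⁻¹' {f' b})) ⟨b, rfl⟩)

/-- A finite surjective homomorphism with connected kernel is universally injective. -/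
theorem universallyInjective_of_connected {A B : Over (Spec (CommRingCat.of K))} [GrpObj A] [GrpObj B]
    (f : A ⟶ B) [IsMonHom f] [IsFinite f.left] [Flat f.left] [Surjective f.left]
    [ConnectedSpace ↥(pullback f.left η[B].left)] : UniversallyInjective f.left := by
  obtain ⟨N, hNg, i, hi, hN⟩ : ∃ (N : Over (Spec (CommRingCat.of K))) (_ : GrpObj N) (i : N ⟶ A),
      IsMonHom i ∧ AlgGrp.IsKernel i f := by
    haveI : IsCommMonObj (𝟙_ (Over (Spec (CommRingCat.of K)))) := inferInstance
    let N : Over (Spec (CommRingCat.of K)) := pullback f η[B]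
    have hK : AlgGrp.IsKernel (pullback.fst f η[B] : N ⟶ A) f := by
      have h := IsPullback.of_hasPullback f η[B]
      rwa [toUnit_unique (pullback.snd f η[B]) (toUnit _)] at h
    haveI := GrpQ.kernel_mono hK
    have hi : ∀ {T : Over (Spec (CommRingCat.of K))} (n : T ⟶ N), (n ≫ pullback.fst f η[B]) ≫ f = 1 := fun n => by
      rw [Category.assoc, GrpQ.kernel_comp hK, MonObj.comp_one]
    obtain ⟨gN, him⟩ := GrpQ.InfSub.exists_grpObj_of_mono (pullback.fst f η[B] : N ⟶ A)
      ((GrpQ.mem_kernel hK _).2 (by rw [IsMonHom.one_hom, MonObj.one_eq_one]))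
      ((GrpQ.mem_kernel hK _).2 (by rw [MonObj.mul_comp, hi, hi, _root_.one_mul]))
      ((GrpQ.mem_kernel hK _).2 (by rw [GrpObj.inv_comp, GrpQ.kernel_comp hK, inv_one]))
    exact ⟨N, gN, _, him, hK⟩
  haveI : IsFinite N.hom := KernelSquare.hom_of f i hN (P := @IsFinite) inferInstance
  haveI : ConnectedSpace N.left := by
    let e := (hN.map (Over.forget _)).isoPullback
    haveI : ConnectedSpace ↥(pullback ((Over.forget (Spec (CommRingCat.of K))).map f)
      ((Over.forget (Spec (CommRingCat.of K))).map η[B])) := ‹ConnectedSpace ↥(pullback f.left η[B].left)›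
    exact e.inv.homeomorph.surjective.connectedSpace e.inv.homeomorph.continuous
  exact KernelSquare.left_of_hom f i hN (P := @UniversallyInjective) (universallyInjective_hom N)

/-- A quasi-inverse of an isogeny of abelian varieties. -/
theorem exists_quasiInverse {X Y : Over (Spec (CommRingCat.of K))} [GrpObj X] [IsProper X.hom]
    [GeometricallyIntegral X.hom] [GrpObj Y] [IsProper Y.hom] [GeometricallyIntegral Y.hom]
    (f : X ⟶ Y) [IsMonHom f] [IsFinite f.left] [Flat f.left] [Surjective f.left] :
    ∃ (n : ℕ) (g : Y ⟶ X), 0 < n ∧ IsMonHom g ∧ f ≫ g = 𝟙 X ^ n ∧ g ≫ f = 𝟙 Y ^ n ∧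
      IsFinite g.left ∧ Flat g.left ∧ Surjective g.left := by
  haveI : Flat X.hom := SpHomog.flat_to_field _
  haveI : Flat Y.hom := SpHomog.flat_to_field _
  haveI : LocallyOfFinitePresentation X.hom := LocallyOfFinitePresentation.iff_locallyOfFiniteType.2 inferInstance
  haveI : LocallyOfFinitePresentation Y.hom := LocallyOfFinitePresentation.iff_locallyOfFiniteType.2 inferInstance
  haveI : LocallyOfFinitePresentation f.left := locallyOfFinitePresentation_left f
  haveI : IsIntegral X.left := GeometricallyIntegral.isIntegral_of_subsingleton X.hom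
  haveI : IsIntegral Y.left := GeometricallyIntegral.isIntegral_of_subsingleton Y.hom
  haveI : GeometricallyConnected X.hom :=
    GrpSch.geometricallyConnected_of_rationalPoint X.hom η[X].left (Over.w η[X])
  haveI : GeometricallyConnected Y.hom :=
    GrpSch.geometricallyConnected_of_rationalPoint Y.hom η[Y].left (Over.w η[Y])
  let s₀ : Spec (CommRingCat.of K) := IsLocalRing.closedPoint K
  have hn : 1 ≤ Scheme.Hom.finrank f.left (η[Y].left s₀) := by
    obtain ⟨x, hx⟩ := f.left.surjective (η[Y].left s₀)
    rw [← hx]
    exact Scheme.Hom.one_le_finrank_map f.left x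
  obtain ⟨⟨g, ⟨hg, hfg⟩, -⟩, hall⟩ := Groth.Agent.S7790.result X Y f _ hn fun s =>
    congrArg (fun t : Spec (CommRingCat.of K) => Scheme.Hom.finrank f.left (η[Y].left t))
      (Subsingleton.elim (α := PrimeSpectrum K) s s₀)
  obtain ⟨hgf, h1, h2, h3⟩ := hall g hg hfg
  exact ⟨_, g, hn, hg, hfg, hgf, h1, h2, h3⟩

/-- A map of groups whose kernel is a single point is finite. -/
theorem isFinite_of_subsingleton_kernel {A B M : Over (Spec (CommRingCat.of K))} [GrpObj A]
    [IsProper A.hom] [GrpObj B] [IsSeparated B.hom] (f : A ⟶ B) [IsMonHom f] (j : M ⟶ A)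
    (hM : AlgGrp.IsKernel j f) [Subsingleton M.left] : IsFinite f.left := by
  haveI : IsClosedImmersion η[B].left := GrpSch.isClosedImmersion_η B
  haveI : IsClosedImmersion j.left :=
    MorphismProperty.of_isPullback (P := @IsClosedImmersion) (hM.map (Over.forget _)).flip ‹_›
  haveI : IsProper M.hom := by rw [← Over.w j]; infer_instance
  haveI : DiscreteTopology M.left := inferInstance
  haveI : LocallyQuasiFinite M.hom := by
    rw [locallyQuasiFinite_iff_isDiscrete_preimage_singleton]
    exact fun y => ⟨inferInstance⟩
  haveI : LocallyQuasiFinite (fst A M).left :=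
    GrpSch.fst_left_of (P := @LocallyQuasiFinite) A (show LocallyQuasiFinite M.hom from inferInstance)
  haveI : IsProper (f.left ≫ B.hom) := by rw [Over.w]; infer_instance
  haveI : IsProper f.left := IsProper.of_comp f.left B.hom
  haveI := GrpdGen.locallyQuasiFinite_of_kernelPair (KernelSquare.isPullback_left f j hM).flip
  exact IsFinite.of_isProper_of_locallyQuasiFinite _

end

end Groth.Agent.H4.Chow
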